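import Cfsg.Agent.H94.Components
import Cfsg.Agent.S5127
import Cfsg.Agent.S5155

/-! Elementary facts for the dichotomy of components against normal subsystems. -/

set_option autoImplicit false
set_option linter.unusedSectionVars false

namespace Cfsg.Agent.H94.Comp

open Cfsg Cfsg.FusionSystem Cfsg.Agent.H96

variable {Ω : Type*} [Group Ω] {S U V W : Subgroup Ω} {F : FusionSystem S} {p : ℕ}

/-- A map fixing a subgroup fixes its subgroups. -/
theorem centralizerHom_antitone {Q Q' P : Subgroup Ω} (hQ : Q' ≤ Q) :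
    F.centralizerHom Q P ⊆ F.centralizerHom Q' P := by
  rintro φ ⟨hφ, hP, hφP, ψ, hψ, h1, h2⟩
  have hc : centralizerIn S Q ≤ centralizerIn S Q' := inf_le_inf_left _ (Subgroup.centralizer_le hQ)
  exact ⟨hφ, hP.trans hc, fun x => hc (hφP x), res ψ (sup_le_sup_left hQ P), res_mem F hψ _,
    fun x => h1 x, fun x => h2 (Subgroup.inclusion hQ x)⟩

/-- A map fixing a subgroup in a subsystem fixes it in the ambient system. -/
theorem centralizerHom_sub {M : FusionSystem V} (hV : V ≤ S) (hM : M.IsSubsystemOf F) {Q P : Subgroup Ω} :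
    M.centralizerHom Q P ⊆ F.centralizerHom Q P := by
  rintro φ ⟨hφ, hP, hφP, ψ, hψ, h1, h2⟩
  have hc : centralizerIn V Q ≤ centralizerIn S Q := inf_le_inf_right _ hV
  exact ⟨hM P hφ, hP.trans hc, fun x => hc (hφP x), ψ, hM _ hψ, h1, h2⟩

/-- A subnormal subsystem is a subsystem. -/
theorem sub_of_subnormal {C : FusionSystem U} (h : C.IsSubnormalIn F p) : C.IsSubsystemOf F := by
  induction h with
  | refl F p => exact fun P => subset_rfl
  | step _ hn ih => exact fun P φ hφ => hn.1.2.2.1 P (ih P hφ)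

/-- The hyperfocal subgroup is monotone. -/
theorem hyperfocal_mono {C : FusionSystem U} {M : FusionSystem V} (hUV : U ≤ V) (hC : C.IsSubsystemOf M) :
    C.hyperfocalSubgroup p ≤ M.hyperfocalSubgroup p := by
  refine Subgroup.closure_mono ?_
  rintro y ⟨P, α, x, hP, hα, rfl⟩
  have hle : C.autGroup P ≤ M.autGroup P := fun a ha =>
    (mem_autGroup M (hP.trans hUV)).2 (hC P ((mem_autGroup C hP).1 ha))
  refine ⟨P, Subgroup.inclusion hle α, x, hP.trans hUV, ?_, rfl⟩
  have hsub : pResidual p (C.autGroup P) ≤ (pResidual p (M.autGroup P)).comap (Subgroup.inclusion hle) := by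
    refine (Subgroup.closure_le _).2 fun a ha => Subgroup.subset_closure ?_
    show (orderOf (Subgroup.inclusion hle a)).Coprime p
    rwa [orderOf_injective _ (Subgroup.inclusion_injective hle)]
  exact hsub hα

/-- The group of a quasisimple system is not centralized by a subgroup containing it. -/
theorem not_le_centralizer [Finite S] [Fact p.Prime] (hS : IsPGroup p S) {C : FusionSystem U} (hq : C.Quasisimple p)
    (hUS : U ≤ S) (hUW : U ≤ W) (hc : U ≤ Subgroup.centralizer (W : Set Ω)) : False := by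
  have := H96.finite_of_le hUS
  refine not_isMulCommutative_of_quasisimple p (hS.to_le hUS) C hq ⟨⟨fun a b => Subtype.ext ?_⟩⟩
  exact hc b.2 a (hUW a.2)

/-- The largest subgroup centralized by a normal subsystem and the normal subsystem on it. -/
theorem exists_centralized [Finite S] [Fact p.Prime] (hS : IsPGroup p S) (hF : F.IsSaturated p)
    {D : FusionSystem W} (hD : D.IsNormalIn F p) :
    ∃ Y : Subgroup Ω, Y ≤ centralizerIn S W ∧ (∀ P, D.Hom P ⊆ F.centralizerHom Y P) ∧
      (∀ Y' : Subgroup Ω, Y' ≤ centralizerIn S W → (∀ P, D.Hom P ⊆ F.centralizerHom Y' P) → Y' ≤ Y) ∧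
      F.StronglyClosed Y ∧ ∃ N : FusionSystem Y, N.IsNormalIn F p ∧ ∀ P, N.Hom P ⊆ F.centralizerHom W P := by
  obtain ⟨Y, h1, h2, h3, h4⟩ := S5127.result p hS F hF D hD
  exact ⟨Y, h1, h2, h3, h4, S5155.result p hS F hF D hD Y h1 h2 h3⟩

end Cfsg.Agent.H94.Comp
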