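import Cfsg.Agent.H94.Comp.Dichotomy
import Cfsg.Agent.H94.ResidualNormal
import Cfsg.Agent.H94.ResidualMinimal
import Cfsg.Agent.H94.ConstrainedComponent

/-! The layer: the least normal subsystem containing all components. -/

set_option autoImplicit false
set_option linter.unusedSectionVars false

namespace Cfsg.Agent.H94.Comp

open Cfsg Cfsg.FusionSystem Cfsg.Agent.H96

variable {Ω : Type*} [Group Ω] {S : Subgroup Ω} {F : FusionSystem S} {p : ℕ} [Finite S] [Fact p.Prime]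

/-- A saturated system is normal in itself. -/
theorem isNormalIn_self (hF : F.IsSaturated p) : F.IsNormalIn F p := by
  refine ⟨H94.isWeaklyNormalIn_self hF, fun α hα => ?_⟩
  have hle : S ⊔ centralizerIn S S ≤ S := sup_le le_rfl inf_le_left
  have hmem : ∀ x : ↥(S ⊔ centralizerIn S S),
      res (S.subtype.comp α.toMonoidHom) hle x ∈ S ⊔ centralizerIn S S :=
    fun x => Subgroup.mem_sup_left (α _).2
  obtain ⟨β, hβ, hβe⟩ := exists_autGroup_of_mem F (res_mem F ((mem_autGroup F le_rfl).1 hα) hle) hmem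
  refine ⟨β, hβ, fun x => (hβe _).trans (congrArg (fun z : S => ((α z : S) : Ω)) (Subtype.ext rfl)),
    fun c hc => ?_⟩
  rw [hβe]
  show (c : Ω)⁻¹ * ((α ⟨c, hle c.2⟩ : S) : Ω) ∈ _
  refine ⟨S.mul_mem (S.inv_mem (hle c.2)) (α _).2, ?_⟩
  refine Subgroup.mul_mem _ (Subgroup.inv_mem _ hc.2) fun s hs => ?_
  obtain ⟨r, hr⟩ := α.surjective ⟨s, hs⟩
  have h1 : r * ⟨c, hle c.2⟩ = ⟨c, hle c.2⟩ * r := Subtype.ext (hc.2 r r.2)
  have h2 := congrArg α h1
  rw [map_mul, map_mul, hr] at h2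
  exact congrArg Subtype.val h2

omit [Finite S] [Fact p.Prime] in
theorem residual_le_of_eq [Finite S] [Fact p.Prime] (hS : IsPGroup p S) (hF : F.IsSaturated p) {R R' : Subgroup Ω}
    (e : R' = R) {D₀ L : FusionSystem R} {X : FusionSystem R'} (hD₀ : D₀.IsWeaklyNormalIn F p)
    (hX : X.IsWeaklyNormalIn F p) (hL : D₀.IsPPrimeResidual p L) : L.IsSubsystemOf X := by
  subst e
  exact pPrimeResidual_le hS hF hD₀ hX hL

/-- A saturated system has a layer. -/
theorem exists_isLayerOf' (hsyl : SylowHolds Ω p) (hbase : BaseHolds Ω p) (hcen : CenterHolds Ω p)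
    (hS : IsPGroup p S) (hF : F.IsSaturated p) : ∃ (T : Subgroup Ω) (E : FusionSystem T), E.IsLayerOf F p := by
  classical
  let Q : ℕ → Prop := fun n => ∃ (R : Subgroup Ω) (D : FusionSystem R), D.IsNormalIn F p ∧
    (∀ (U : Subgroup Ω) (C : FusionSystem U), C.IsComponentIn F p → C.IsSubsystemOf D) ∧ Nat.card R = n
  have hQ : ∃ n, Q n :=
    ⟨_, S, F, isNormalIn_self hF, fun U C hC => sub_of_subnormal hC.1, rfl⟩
  obtain ⟨R, D₀, hD₀, hD₀C, hR⟩ := Nat.find_spec hQ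
  have hRS : R ≤ S := hD₀.1.2.2.2.1.1
  have := H96.finite_of_le hRS
  have hRp : IsPGroup p R := hS.to_le hRS
  obtain ⟨L, hL, -⟩ := exists_pPrimeResidual hRp hD₀.1.1
  have hLF : L.IsNormalIn F p := pPrimeResidual_isNormalIn hS hD₀.1 hL
  have hLD : L.IsNormalIn D₀ p := pPrimeResidual_isNormalIn hRp (H94.isWeaklyNormalIn_self hD₀.1.1) hL
  have hcomp : ∀ (U : Subgroup Ω) (C : FusionSystem U), C.IsComponentIn F p → U ≤ R := fun U C hC =>
    ((C.le_of_mem (subtype_mem C le_rfl)).1).trans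
      ((D₀.le_of_mem (hD₀C U C hC U (subtype_mem C le_rfl))).1)
  have hLC : ∀ (U : Subgroup Ω) (C : FusionSystem U), C.IsComponentIn F p → C.IsSubsystemOf L := fun U C hC =>
    (component_le_of_le' hsyl hbase hcen hS hF hC hLF (hcomp U C hC)).1
  refine ⟨R, L, hLF, hLC, fun R' D hD hDC => ?_⟩
  obtain ⟨X, ⟨hXF, hXL, hXD⟩, -⟩ := Meet.exists_meet_of_sylow hS hF hLF hD
    (hsyl F L D inferInstance ⟨hS, hF, hLF.1, hD.1⟩)
  have hXC : ∀ (U : Subgroup Ω) (C : FusionSystem U), C.IsComponentIn F p → C.IsSubsystemOf X := fun U C hC =>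
    (component_le_of_le' hsyl hbase hcen hS hF hC hXF (le_inf (hcomp U C hC)
      ((D.le_of_mem (hDC U C hC U (subtype_mem C le_rfl))).1))).1
  have hge : Nat.card R ≤ Nat.card ↥(R ⊓ R') :=
    hR.le.trans (Nat.find_min' hQ ⟨_, X, hXF, hXC, rfl⟩)
  have heq : R ⊓ R' = R := Subgroup.eq_of_le_of_card_ge inf_le_left hge
  exact fun P φ hφ => hXD.1.2.2.1 P (residual_le_of_eq hS hF heq hD₀.1 hXF.1 hL P hφ)

end Cfsg.Agent.H94.Comp
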