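import Cfsg.Agent.H94.Comp.Holds
import Cfsg.Agent.H94.Comp.Layer
import Cfsg.Agent.H93.QuasisimpleDichotomy

/-! The component dichotomy and the existence of the layer. -/

set_option autoImplicit false
set_option linter.unusedSectionVars false

namespace Cfsg.Agent.H94.Comp

open Cfsg Cfsg.FusionSystem

variable {Ω : Type*} [Group Ω] {S : Subgroup Ω} {F : FusionSystem S} {p : ℕ} [Finite S] [Fact p.Prime]

theorem baseHolds : BaseHolds Ω p := fun hfin hS hq hD =>
  haveI := hfin
  H93.QSDichotomy.quasisimple_normal_dichotomy hS hq hD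

/-- A component whose group lies in a normal subsystem is a component of it. -/
theorem component_le_of_le (hS : IsPGroup p S) (hF : F.IsSaturated p) {U T : Subgroup Ω} {C : FusionSystem U}
    {D : FusionSystem T} (hC : C.IsComponentIn F p) (hD : D.IsNormalIn F p) (hUT : U ≤ T) :
    C.IsSubsystemOf D ∧ C.IsComponentIn D p :=
  component_le_of_le' sylowHolds baseHolds centerHolds hS hF hC hD hUT

/-- A component lies in a normal subsystem or each centralizes the other. -/
theorem component_dichotomy (hS : IsPGroup p S) (hF : F.IsSaturated p) {U T : Subgroup Ω} {C : FusionSystem U}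
    {D : FusionSystem T} (hC : C.IsComponentIn F p) (hD : D.IsNormalIn F p) :
    (C.IsSubsystemOf D ∧ C.IsComponentIn D p) ∨ (U ≤ centralizerIn S T ∧
      (∀ P, C.Hom P ⊆ F.centralizerHom T P) ∧ ∀ P, D.Hom P ⊆ F.centralizerHom U P) :=
  component_dichotomy' sylowHolds baseHolds centerHolds hS hF hC hD

/-- A saturated system has a layer. -/
theorem exists_isLayerOf (hS : IsPGroup p S) (hF : F.IsSaturated p) :
    ∃ (T : Subgroup Ω) (E : FusionSystem T), E.IsLayerOf F p :=
  exists_isLayerOf' sylowHolds baseHolds centerHolds hS hF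

/-- The intersection of two normal subsystems. -/
theorem exists_meet (hS : IsPGroup p S) (hF : F.IsSaturated p) {T₁ T₂ : Subgroup Ω} {E₁ : FusionSystem T₁}
    {E₂ : FusionSystem T₂} (h₁ : E₁.IsNormalIn F p) (h₂ : E₂.IsNormalIn F p) :
    ∃ D : FusionSystem (T₁ ⊓ T₂), D.IsNormalIn F p ∧ D.IsNormalIn E₁ p ∧ D.IsNormalIn E₂ p := by
  obtain ⟨D, hD, -⟩ := Meet.exists_meet_of_sylow hS hF h₁ h₂ (sylowHolds F E₁ E₂ inferInstance ⟨hS, hF, h₁.1, h₂.1⟩)
  exact ⟨D, hD⟩

end Cfsg.Agent.H94.Comp
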