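import Cfsg.Agent.H94.Comp.Basic
import Cfsg.Agent.H94.Meet.Exists

/-! A component lies in a normal subsystem or centralizes it. -/

set_option autoImplicit false
set_option linter.unusedSectionVars false

namespace Cfsg.Agent.H94.Comp

open Cfsg Cfsg.FusionSystem Cfsg.Agent.H96

variable {Ω : Type*} [Group Ω] {S : Subgroup Ω} {F : FusionSystem S} {p : ℕ}

/-- The Sylow property of the intersections inside a given group. -/
def SylowHolds (Ω : Type*) [Group Ω] (p : ℕ) : Prop :=
  ∀ {S T₁ T₂ : Subgroup Ω} (F : FusionSystem S) (E₁ : FusionSystem T₁) (E₂ : FusionSystem T₂), Finite S →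
    Meet.Data p F E₁ E₂ → Meet.SylowProp p F E₁ E₂

/-- A normal subsystem of a quasisimple system is central or everything. -/
def BaseHolds (Ω : Type*) [Group Ω] (p : ℕ) : Prop :=
  ∀ {S T : Subgroup Ω} {F : FusionSystem S} {D : FusionSystem T}, Finite S → IsPGroup p S → F.Quasisimple p →
    D.IsNormalIn F p → (T = S ∧ ∀ P, D.Hom P = F.Hom P) ∨ (T ≤ F.center ∧ ∀ P, D.Hom P ⊆ F.centralizerHom S P)

/-- A subsystem with the hyperfocal conclusion of a normal subsystem centralizing an intersection. -/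
def CenterHolds (Ω : Type*) [Group Ω] (p : ℕ) : Prop :=
  ∀ {S : Subgroup Ω} {F : FusionSystem S}, Finite S → IsPGroup p S → F.IsSaturated p →
    ∀ {V T : Subgroup Ω} {M : FusionSystem V} {D : FusionSystem T}, M.IsNormalIn F p → D.IsNormalIn F p →
    (∀ P, M.Hom P ⊆ F.centralizerHom (V ⊓ T) P) → ∀ {Y : Subgroup Ω}, Y ≤ centralizerIn S T →
    (∀ P, D.Hom P ⊆ F.centralizerHom Y P) →
    (∀ Y' : Subgroup Ω, Y' ≤ centralizerIn S T → (∀ P, D.Hom P ⊆ F.centralizerHom Y' P) → Y' ≤ Y) →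
    F.StronglyClosed Y → M.hyperfocalSubgroup p ≤ Y

theorem dichotomy_aux (hsyl : SylowHolds Ω p) (hbase : BaseHolds Ω p) (hcen : CenterHolds Ω p)
    {U S : Subgroup Ω} {C : FusionSystem U} {F : FusionSystem S} (h : C.IsSubnormalIn F p) :
    Fact p.Prime → C.Quasisimple p → Finite S → IsPGroup p S → F.IsSaturated p →
      ∀ {T : Subgroup Ω} {D : FusionSystem T}, D.IsNormalIn F p →
        (C.IsSubsystemOf D ∧ C.IsSubnormalIn D p) ∨
          (U ≤ centralizerIn S T ∧ ∀ P, D.Hom P ⊆ F.centralizerHom U P) := by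
  induction h with
  | refl F p =>
    intro _ hq _ hS hF T D hD
    rcases hbase ‹_› hS hq hD with ⟨rfl, hhom⟩ | ⟨hTZ, hDC⟩
    · obtain rfl : D = F := sys_ext hhom
      exact Or.inl ⟨fun P => subset_rfl, IsSubnormalIn.refl _ _⟩
    · exact Or.inr ⟨le_inf le_rfl (Subgroup.le_centralizer_iff.1 (hTZ.trans F.center_le_centralizer)), hDC⟩
  | @step V S C M F p hCM hM ih =>
    intro _ hq _ hS hF
    have hVS : V ≤ S := hM.1.2.2.2.1.1
    have hUV : U ≤ V := subnormal_le hCM
    have hfV := H96.finite_of_le hVS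
    have hV : IsPGroup p V := hS.to_le hVS
    have hsub : C.IsSubsystemOf F := fun P φ hφ => hM.1.2.2.1 P (sub_of_subnormal hCM P hφ)
    have hU : U = C.hyperfocalSubgroup p := hq.2.1.symm
    -- the inductive statement, for every normal subsystem
    have key : ∀ {T : Subgroup Ω} {D : FusionSystem T}, D.IsNormalIn F p →
        (C.IsSubsystemOf D ∧ C.IsSubnormalIn D p) ∨
          (U ≤ centralizerIn S T ∧ ∀ P, D.Hom P ⊆ F.centralizerHom U P) := by
      intro T D hD
      obtain ⟨X, ⟨hXF, hXM, hXD⟩, -⟩ := Meet.exists_meet_of_sylow hS hF hM hD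
        (hsyl F M D inferInstance ⟨hS, hF, hM.1, hD.1⟩)
      rcases ih hsyl hbase hcen inferInstance hq hfV hV hM.1.1 hXM with ⟨hCX, hCsX⟩ | ⟨hUc, hXc⟩
      · exact Or.inl ⟨fun P φ hφ => hXD.1.2.2.1 P (hCX P hφ), IsSubnormalIn.step hCsX hXD⟩
      obtain ⟨YX, hYX, hXYX, hYXmax, -, N, hN, hNc⟩ := exists_centralized hS hF hXF
      have hUY : U ≤ YX := hYXmax U (hUc.trans (inf_le_inf_right _ hVS))
        fun P φ hφ => centralizerHom_sub hVS hM.1.2.2.1 (hXc P hφ)
      obtain ⟨M', ⟨hM'F, hM'M, hM'N⟩, -⟩ := Meet.exists_meet_of_sylow hS hF hM hN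
        (hsyl F M N inferInstance ⟨hS, hF, hM.1, hN.1⟩)
      have hCM' : C.IsSubsystemOf M' := by
        rcases ih hsyl hbase hcen inferInstance hq hfV hV hM.1.1 hM'M with ⟨h1, -⟩ | ⟨hc, -⟩
        · exact h1
        · exact (not_le_centralizer hS hq (hUV.trans hVS) (le_inf hUV hUY) (hc.trans inf_le_right)).elim
      obtain ⟨YD, hYD, hDYD, hYDmax, hYDc, -⟩ := exists_centralized hS hF hD
      have hhyp : M'.hyperfocalSubgroup p ≤ YD := hcen inferInstance hS hF hM'F hD (fun P φ hφ =>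
        centralizerHom_antitone (inf_le_inf_right T inf_le_left) (hNc P (hM'N.1.2.2.1 P hφ))) hYD hDYD hYDmax hYDc
      have hUD : U ≤ YD := hU.le.trans ((hyperfocal_mono (le_inf hUV hUY) hCM').trans hhyp)
      exact Or.inr ⟨hUD.trans hYD, fun P φ hφ => centralizerHom_antitone hUD (hDYD P hφ)⟩
    intro T D hD
    exact key hD

variable [Finite S] [Fact p.Prime]

/-- A component whose group lies in a normal subsystem is a component of it. -/
theorem component_le_of_le' (hsyl : SylowHolds Ω p) (hbase : BaseHolds Ω p) (hcen : CenterHolds Ω p)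
    (hS : IsPGroup p S) (hF : F.IsSaturated p) {U T : Subgroup Ω} {C : FusionSystem U}
    {D : FusionSystem T} (hC : C.IsComponentIn F p) (hD : D.IsNormalIn F p) (hUT : U ≤ T) :
    C.IsSubsystemOf D ∧ C.IsComponentIn D p := by
  rcases dichotomy_aux hsyl hbase hcen hC.1 inferInstance hC.2 inferInstance hS hF hD with ⟨h1, h2⟩ | ⟨hc, -⟩
  · exact ⟨h1, h2, hC.2⟩
  · exact (not_le_centralizer hS hC.2 (hc.trans inf_le_left) hUT (hc.trans inf_le_right)).elim

/-- A component lies in a normal subsystem or each centralizes the other. -/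
theorem component_dichotomy' (hsyl : SylowHolds Ω p) (hbase : BaseHolds Ω p) (hcen : CenterHolds Ω p)
    (hS : IsPGroup p S) (hF : F.IsSaturated p) {U T : Subgroup Ω} {C : FusionSystem U}
    {D : FusionSystem T} (hC : C.IsComponentIn F p) (hD : D.IsNormalIn F p) :
    (C.IsSubsystemOf D ∧ C.IsComponentIn D p) ∨ (U ≤ centralizerIn S T ∧
      (∀ P, C.Hom P ⊆ F.centralizerHom T P) ∧ ∀ P, D.Hom P ⊆ F.centralizerHom U P) := by
  rcases dichotomy_aux hsyl hbase hcen hC.1 inferInstance hC.2 inferInstance hS hF hD with ⟨h1, h2⟩ | ⟨hc, hDc⟩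
  · exact Or.inl ⟨h1, h2, hC.2⟩
  obtain ⟨Y, hY, -, hmax, -, N, hN, hNc⟩ := exists_centralized hS hF hD
  have hUY : U ≤ Y := hmax U hc hDc
  obtain ⟨hCN, -⟩ := component_le_of_le' hsyl hbase hcen hS hF hC hN hUY
  exact Or.inr ⟨hc, fun P φ hφ => hNc P (hCN P hφ), hDc⟩

end Cfsg.Agent.H94.Comp
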