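import Cfsg.Agent.H94.Comp.Dichotomy
import Cfsg.Agent.H35.Meet.Sylow
import Cfsg.Agent.H24.CompCenter

/-! The Sylow and centre hypotheses of the component dichotomy hold. -/

set_option autoImplicit false

namespace Cfsg.Agent.H94.Comp

open Cfsg Cfsg.FusionSystem

variable {Ω : Type*} [Group Ω] {p : ℕ} [Fact p.Prime]

theorem sylowHolds : SylowHolds Ω p := fun _ _ _ _ h => H35.Meet.sylowProp h

theorem centerHolds : CenterHolds Ω p := fun _ hS hF _ _ _ _ hM hD hMZ _ hYT hYD hmax hYc =>
  H24.CompCenter.hyperfocal_le_of_centralized hS hF hM hD hMZ hYT hYD hmax hYc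

end Cfsg.Agent.H94.Comp
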